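import Mathlib

/-!
Lang's theorem for the general linear group over an algebraically closed field: an injective
Frobenius-semilinear endomorphism of a finite dimensional space has a basis of fixed vectors.
-/

set_option autoImplicit false

namespace CfsgLib.Lang

open Polynomial

variable {K : Type*} [Field K] [IsAlgClosed K]

theorem exists_fixed_vector {q : ℕ} (hq : 1 < q) (τ : K →+* K) (hτ : ∀ t, τ t = t ^ q)
    {V : Type*} [AddCommGroup V] [Module K V] [FiniteDimensional K V]
    (φ : V →ₛₗ[τ] V) (hφ : Function.Injective φ) (v : V) (hv : v ≠ 0) :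
    ∃ w : V, w ≠ 0 ∧ φ w = w := by
  classical
  have hex : ∃ k, (φ^[k]) v ∈ Submodule.span K (Set.range fun i : Fin k => (φ^[(i : ℕ)]) v) := by
    by_contra h
    push Not at h
    have hli : ∀ k, LinearIndependent K (fun i : Fin k => (φ^[(i : ℕ)]) v) := by
      intro k
      induction k with
      | zero => exact linearIndependent_empty_type
      | succ k ih =>
        rw [linearIndependent_finSucc']
        exact ⟨ih, by simpa [Fin.init_def] using h k⟩
    have := (hli (Module.finrank K V + 1)).fintype_card_le_finrank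
    simp at this
  obtain ⟨k, hk, hmin⟩ : ∃ k,
      (φ^[k]) v ∈ Submodule.span K (Set.range fun i : Fin k => (φ^[(i : ℕ)]) v) ∧ ∀ j < k,
      (φ^[j]) v ∉ Submodule.span K (Set.range fun i : Fin j => (φ^[(i : ℕ)]) v) :=
    ⟨Nat.find hex, Nat.find_spec hex, fun j hj => Nat.find_min hex hj⟩
  have hli : ∀ j ≤ k, LinearIndependent K (fun i : Fin j => (φ^[(i : ℕ)]) v) := by
    intro j hj
    induction j with
    | zero => exact linearIndependent_empty_type
    | succ j ih =>
      rw [linearIndependent_finSucc']
      exact ⟨ih (by omega), by simpa [Fin.init_def] using hmin j (by omega)⟩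
  obtain ⟨k, rfl⟩ : ∃ j, k = j + 1 := by
    rcases Nat.eq_zero_or_pos k with h | h
    · subst h; simp at hk; exact absurd hk hv
    · exact ⟨k - 1, by omega⟩
  obtain ⟨a, ha⟩ := (Submodule.mem_span_range_iff_exists_fun K).1 hk
  let e : ℕ → K := fun i => if h : i < k + 1 then a ⟨i, h⟩ else 0
  have hsum : ∑ i ∈ Finset.range (k + 1), e i • (φ^[i]) v = (φ^[k + 1]) v := by
    rw [← ha, Finset.sum_range (fun i => e i • (φ^[i]) v)]
    exact Finset.sum_congr rfl fun i _ => by simp only [e]; rw [dif_pos i.2]
  have he0 : e 0 ≠ 0 := by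
    intro h0
    rw [Finset.sum_range_succ', h0, zero_smul, add_zero] at hsum
    apply hmin k (Nat.lt_succ_self k)
    have hroot : ∀ i, ∃ b, τ b = e i := fun i => by
      obtain ⟨b, hb⟩ := IsAlgClosed.exists_pow_nat_eq (e i) (n := q) (by omega)
      exact ⟨b, by rw [hτ, hb]⟩
    choose b hb using hroot
    have : φ (∑ i ∈ Finset.range k, b (i + 1) • (φ^[i]) v) = φ ((φ^[k]) v) := by
      rw [map_sum, ← Function.iterate_succ_apply' (⇑φ) k v, ← hsum]
      exact Finset.sum_congr rfl fun i _ => by
        rw [LinearMap.map_smulₛₗ, hb, Function.iterate_succ_apply']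
    rw [← hφ this, Finset.sum_range (fun i => b (i + 1) • (φ^[i]) v)]
    exact Submodule.sum_mem _ fun i _ => Submodule.smul_mem _ _
      (Submodule.subset_span ⟨i, rfl⟩)
  let P : ℕ → K[X] := fun i => Nat.rec (C (e 0) * X ^ q)
    (fun j Pj => Pj ^ q + C (e (j + 1)) * X ^ q) i
  have hdeg : ∀ i, (P i).natDegree = q ^ (i + 1) ∧ X ^ q ∣ P i := by
    intro i
    induction i with
    | zero => exact ⟨by simpa [P] using natDegree_C_mul_X_pow q (e 0) he0, Dvd.intro_left _ rfl⟩
    | succ i ih =>
      refine ⟨?_, ?_⟩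
      · change (P i ^ q + C (e (i + 1)) * X ^ q).natDegree = _
        have h1 : (P i ^ q).natDegree = q ^ (i + 2) := by
          rw [natDegree_pow, ih.1]; ring
        rw [natDegree_add_eq_left_of_natDegree_lt, h1]
        calc (C (e (i + 1)) * X ^ q).natDegree ≤ q := natDegree_C_mul_X_pow_le _ _
          _ < q ^ (i + 2) := lt_self_pow₀ hq (by omega)
          _ = (P i ^ q).natDegree := h1.symm
      · exact dvd_add (ih.2.trans (dvd_pow_self _ (by omega))) (Dvd.intro_left _ rfl)
  obtain ⟨R, hR⟩ := (hdeg k).2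
  have hP0 : P k ≠ 0 := ne_zero_of_natDegree_gt
    (show 0 < (P k).natDegree by rw [(hdeg k).1]; positivity)
  have hR0 : R ≠ 0 := fun h => hP0 (by rw [hR, h, mul_zero])
  have hG : (X ^ (q - 1) * R - 1).degree ≠ 0 := by
    have h1 : 0 < (X ^ (q - 1) * R - 1).natDegree := by
      rw [← C_1, natDegree_sub_C, natDegree_X_pow_mul _ hR0]; omega
    exact fun h => h1.ne' (natDegree_eq_zero_iff_degree_le_zero.2 h.le)
  obtain ⟨t, ht⟩ := IsAlgClosed.exists_root _ hG
  have ht0 : t ≠ 0 := by
    rintro rfl
    simp [zero_pow (show q - 1 ≠ 0 by omega)] at ht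
  have hPt : (P k).eval t = t := by
    simp only [IsRoot.def, eval_sub, eval_mul, eval_pow, eval_X, eval_one, sub_eq_zero] at ht
    rw [hR, eval_mul, eval_pow, eval_X, show t ^ q = t * t ^ (q - 1) by
      rw [← pow_succ', Nat.sub_add_cancel (by omega)], mul_assoc, ht, mul_one]
  let x : ℕ → K := fun i => (P i).eval t
  refine ⟨∑ i ∈ Finset.range (k + 1), x i • (φ^[i]) v, ?_, ?_⟩
  · intro h0
    rw [Finset.sum_range (fun i => x i • (φ^[i]) v)] at h0
    have := Fintype.linearIndependent_iff.1 (hli (k + 1) le_rfl) (fun i => x i) h0 (Fin.last k)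
    exact ht0 (hPt ▸ this)
  · have hstep : ∀ i, φ (x i • (φ^[i]) v) = τ (x i) • (φ^[i + 1]) v := fun i => by
      rw [LinearMap.map_smulₛₗ, Function.iterate_succ_apply']
    rw [map_sum, Finset.sum_congr rfl fun i _ => hstep i, Finset.sum_range_succ]
    have hxk : τ (x k) = t ^ q := by rw [hτ]; exact congrArg (· ^ q) hPt
    rw [hxk, ← hsum, Finset.smul_sum, Finset.sum_range_succ' (fun i => t ^ q • e i • (φ^[i]) v),
      Finset.sum_range_succ' (fun i => x i • (φ^[i]) v), ← add_assoc, ← Finset.sum_add_distrib]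
    congr 1
    · refine Finset.sum_congr rfl fun i _ => ?_
      rw [smul_smul, ← add_smul]
      congr 1
      change τ ((P i).eval t) + t ^ q * e (i + 1) =
        (P i ^ q + C (e (i + 1)) * X ^ q).eval t
      rw [hτ, eval_add, eval_pow, eval_mul, eval_C, eval_pow, eval_X]
      ring
    · rw [smul_smul]
      congr 1
      change t ^ q * e 0 = (C (e 0) * X ^ q).eval t
      rw [eval_mul, eval_C, eval_pow, eval_X]
      ring

theorem span_fixed {q : ℕ} (hq : 1 < q) (τ : K →+* K) (hτ : ∀ t, τ t = t ^ q) :
    ∀ (d : ℕ) {V : Type*} [AddCommGroup V] [Module K V] [FiniteDimensional K V]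
      (φ : V →ₛₗ[τ] V), Module.finrank K V = d → Function.Injective φ →
      Submodule.span K {v : V | φ v = v} = ⊤ := by
  intro d
  induction d with
  | zero =>
    intro V _ _ _ φ hd _
    have := (Module.finrank_zero_iff (R := K)).1 hd
    exact Submodule.eq_top_iff'.2 fun x => by rw [Subsingleton.elim x 0]; exact Submodule.zero_mem _
  | succ d ih =>
    intro V _ _ _ φ hd hφ
    obtain ⟨v, hv⟩ := (Module.finrank_pos_iff_exists_ne_zero (R := K) (M := V)).1 (by omega)
    obtain ⟨w, hw0, hw⟩ := exists_fixed_vector hq τ hτ φ hφ v hv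
    set p : Submodule K V := K ∙ w with hp
    have hpp : p ≤ p.comap φ := by
      rw [hp, Submodule.span_singleton_le_iff_mem, Submodule.mem_comap, hw]
      exact Submodule.mem_span_singleton_self w
    let ψ : (V ⧸ p) →ₛₗ[τ] (V ⧸ p) := Submodule.mapQ p p φ hpp
    have hψ : Function.Injective ψ := by
      rw [← LinearMap.ker_eq_bot, LinearMap.ker_eq_bot']
      intro x
      obtain ⟨y, rfl⟩ := Submodule.Quotient.mk_surjective p x
      intro hy
      rw [Submodule.mapQ_apply, Submodule.Quotient.mk_eq_zero, hp,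
        Submodule.mem_span_singleton] at hy
      obtain ⟨c, hc⟩ := hy
      obtain ⟨b, hb⟩ := IsAlgClosed.exists_pow_nat_eq c (n := q) (by omega)
      rw [Submodule.Quotient.mk_eq_zero, hp, Submodule.mem_span_singleton]
      exact ⟨b, hφ (by rw [LinearMap.map_smulₛₗ, hτ, hb, hw, hc])⟩
    have hrank : Module.finrank K (V ⧸ p) = d := by
      have h1 : Module.finrank K (V ⧸ p) + Module.finrank K p = Module.finrank K V :=
        Submodule.finrank_quotient_add_finrank p
      have h2 : Module.finrank K p = 1 := finrank_span_singleton hw0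
      omega
    have key : Submodule.map p.mkQ (Submodule.span K {v : V | φ v = v}) = ⊤ := by
      rw [eq_top_iff, ← ih ψ hrank hψ, Submodule.span_le]
      intro x hx
      obtain ⟨u, rfl⟩ := Submodule.Quotient.mk_surjective p x
      change ψ (Submodule.Quotient.mk u) = Submodule.Quotient.mk u at hx
      rw [Submodule.mapQ_apply, Submodule.Quotient.eq, hp, Submodule.mem_span_singleton] at hx
      obtain ⟨c, hc⟩ := hx
      obtain ⟨s, hs⟩ := IsAlgClosed.exists_root (X ^ q - X + C c : K[X]) (by
        have h1 : (X ^ q - X + C c : K[X]).natDegree = q := by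
          rw [natDegree_add_C, natDegree_sub_eq_left_of_natDegree_lt, natDegree_X_pow]
          rw [natDegree_X_pow, natDegree_X]; exact hq
        intro h
        have := natDegree_eq_of_degree_eq_some (n := 0) h
        omega)
      simp only [IsRoot.def, eval_add, eval_sub, eval_pow, eval_X, eval_C] at hs
      refine ⟨u + s • w, Submodule.subset_span ?_, ?_⟩
      · change φ (u + s • w) = u + s • w
        have hφu : φ u = c • w + u := by rw [hc]; abel
        rw [map_add, LinearMap.map_smulₛₗ, hτ, hw, hφu]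
        have : c + s ^ q = s := by linear_combination hs
        conv_rhs => rw [← this, add_smul]
        abel
      · rw [Submodule.mkQ_apply, Submodule.Quotient.eq, add_sub_cancel_left, hp]
        exact Submodule.smul_mem _ _ (Submodule.mem_span_singleton_self w)
    rw [Submodule.map_mkQ_eq_top] at key
    rw [← key, right_eq_sup, hp, Submodule.span_singleton_le_iff_mem]
    exact Submodule.subset_span hw

theorem exists_lang (p : ℕ) [Fact p.Prime] [CharP K p] (f : ℕ) (hf : 1 ≤ f) {n : ℕ}
    (g : GL (Fin n) K) :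
    ∃ x : GL (Fin n) K, g = x * (Matrix.GeneralLinearGroup.map (iterateFrobenius K p f) x)⁻¹ := by
  classical
  have hq : 1 < p ^ f := Nat.one_lt_pow (by omega) (Fact.out : p.Prime).one_lt
  let τ : K →+* K := iterateFrobenius K p f
  let φ : (Fin n → K) →ₛₗ[τ] (Fin n → K) :=
    { toFun := fun v => (g : Matrix (Fin n) (Fin n) K).mulVec (fun i => τ (v i))
      map_add' := fun u v => by
        rw [← Matrix.mulVec_add]; congr 1; funext i; simp
      map_smul' := fun c v => by
        rw [← Matrix.mulVec_smul]; congr 1; funext i; simp }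
  have hφ : Function.Injective φ := by
    intro u v h
    have h' := congrArg (fun w => ((g⁻¹ : GL (Fin n) K) : Matrix (Fin n) (Fin n) K).mulVec w) h
    simp only [φ, LinearMap.coe_mk, AddHom.coe_mk, Matrix.mulVec_mulVec, ← Units.val_mul,
      inv_mul_cancel, Units.val_one, Matrix.one_mulVec] at h'
    funext i
    exact τ.injective (congrFun h' i)
  have hspan := span_fixed hq τ (fun t => by simp [τ, iterateFrobenius_def]) _ φ rfl hφ
  let b := Module.Basis.ofSpan hspan.ge
  have hb : ∀ i, φ (b i) = b i := fun i =>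
    Module.Basis.ofSpan_subset hspan.ge ⟨i, rfl⟩
  let e := b.indexEquiv (Pi.basisFun K (Fin n))
  let x : Matrix (Fin n) (Fin n) K := (Pi.basisFun K (Fin n)).toMatrix (b.reindex e)
  have hx : x.det ≠ 0 := by
    change ((Pi.basisFun K (Fin n)).toMatrix (b.reindex e)).det ≠ 0
    rw [← Module.Basis.det_apply]
    exact ((Pi.basisFun K (Fin n)).isUnit_det (b.reindex e)).ne_zero
  refine ⟨Matrix.GeneralLinearGroup.mkOfDetNeZero x hx, eq_mul_inv_of_mul_eq (Units.ext ?_)⟩
  ext i j
  have := congrFun (hb (e.symm j)) i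
  simpa [φ, x, τ, Matrix.mul_apply, Matrix.mulVec, dotProduct, Module.Basis.toMatrix_apply]
    using this

end CfsgLib.Lang
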